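import Cfsg.Agent.Lib.GW.Deps.OuterInvol.Structure
import Cfsg.Agent.Lib.GW.Deps.Rigid
import Cfsg.Agent.Lib.Geo.PGLTwoBasic

/-!
# Two commuting outer diagonal involutions: their centralisers generate `PSL(2, q)`
-/

set_option autoImplicit false

namespace CfsgLib.GW.Deps.OuterInvol

open Subgroup
open CfsgLib.Known.AutPSL CfsgLib.GW.KFactsProof CfsgLib.Classical.Dickson
open scoped commutatorElement

/-- What the overgroup argument uses about a dihedral subgroup. -/
theorem dihedral_facts {G : Type*} [Group G] {C : Subgroup G} {h : ℕ} (hodd : Odd h) (h3 : 3 ≤ h)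
    (ψ : C ≃* DihedralGroup h) :
    ∃ c w : G, c ∈ C ∧ w ∈ C ∧ orderOf c = h ∧ w * c * w⁻¹ = c⁻¹ ∧
      (∀ d ∈ C, d ^ h = 1 → d ∈ zpowers c) ∧ (∀ d ∈ C, Commute d c → d ∈ zpowers c) ∧
      (∀ d ∈ C, d * c * d⁻¹ ∈ zpowers c) ∧ ∀ x ∈ C, x * x = 1 → (∀ d ∈ C, Commute x d) → x = 1 := by
  have : NeZero h := ⟨by omega⟩
  let f : DihedralGroup h →* G := C.subtype.comp ψ.symm.toMonoidHom
  have hfC : ∀ d ∈ C, ∃ k, f k = d := fun d hd => ⟨ψ ⟨d, hd⟩, congrArg Subtype.val (ψ.symm_apply_apply ⟨d, hd⟩)⟩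
  have hfinj : Function.Injective f := C.subtype_injective.comp ψ.symm.injective
  have hmem : ∀ k, f k ∈ C := fun k => (ψ.symm k).2
  set c := f (DihedralGroup.r 1)
  have hr : ∀ i : ZMod h, f (DihedralGroup.r i) ∈ zpowers c := fun i => by
    refine ⟨(i.val : ℤ), ?_⟩
    show c ^ (i.val : ℤ) = _
    rw [zpow_natCast, ← map_pow, DihedralGroup.r_one_pow, ZMod.natCast_zmod_val]
  have h2ne : (2 : ZMod h) ≠ 0 := fun e => by
    have e' : ((2 : ℕ) : ZMod h) = 0 := by exact_mod_cast e
    rw [ZMod.natCast_eq_zero_iff] at e'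
    have := Nat.le_of_dvd two_pos e'
    omega
  have hcomr : ∀ k, Commute k (DihedralGroup.r (1 : ZMod h)) → ∃ i, k = DihedralGroup.r i := by
    rintro (i | i) hk
    · exact ⟨i, rfl⟩
    · exfalso
      have e := hk.eq
      rw [DihedralGroup.sr_mul_r, DihedralGroup.r_mul_sr, DihedralGroup.sr.injEq] at e
      exact h2ne (by linear_combination e)
  refine ⟨c, f (DihedralGroup.sr 0), hmem _, hmem _, ?_, ?_, ?_, ?_, ?_, ?_⟩
  · exact (orderOf_injective f hfinj _).trans DihedralGroup.orderOf_r_one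
  · show f _ * c * (f _)⁻¹ = c⁻¹
    rw [← map_inv, ← map_mul, ← map_mul, ← map_inv]
    simp
  · intro d hd hdh
    obtain ⟨k, rfl⟩ := hfC d hd
    rcases k with i | i
    · exact hr i
    · exfalso
      rw [← map_pow, ← map_one f] at hdh
      have e := orderOf_dvd_of_pow_eq_one (hfinj hdh)
      rw [DihedralGroup.orderOf_sr] at e
      exact Nat.not_even_iff_odd.2 hodd (even_iff_two_dvd.2 e)
  · intro d hd hdc
    obtain ⟨k, rfl⟩ := hfC d hd
    obtain ⟨i, rfl⟩ := hcomr k (Commute.of_map hfinj hdc)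
    exact hr i
  · intro d hd
    obtain ⟨k, rfl⟩ := hfC d hd
    rw [← map_inv, ← map_mul, ← map_mul]
    rcases k with i | i
    · rw [show DihedralGroup.r i * DihedralGroup.r (1 : ZMod h) * (DihedralGroup.r i)⁻¹ = DihedralGroup.r 1 by simp]
      exact hr 1
    · rw [show DihedralGroup.sr i * DihedralGroup.r (1 : ZMod h) * (DihedralGroup.sr i)⁻¹ = DihedralGroup.r (-1) by simp]
      exact hr _
  · intro x hx hxx hcen
    obtain ⟨k, rfl⟩ := hfC x hx
    obtain ⟨i, rfl⟩ := hcomr k (Commute.of_map hfinj (hcen c (hmem _)))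
    have e : i + i = 0 := by
      rw [← map_mul, ← map_one f] at hxx
      have e2 := hfinj hxx
      rw [DihedralGroup.r_mul_r, DihedralGroup.one_def] at e2
      exact DihedralGroup.r.inj e2
    obtain ⟨j, hj⟩ := hodd
    have hi : i = 0 := by
      have hh : ((2 * j + 1 : ℕ) : ZMod h) = 0 := by rw [← hj, ZMod.natCast_self]
      push_cast at hh
      linear_combination i * hh - (j : ZMod h) * e
    rw [hi, ← DihedralGroup.one_def, map_one]

theorem alt_four_no_inverted : ∀ a b : alternatingGroup (Fin 4), a ^ 3 = 1 → b * a * b⁻¹ = a⁻¹ → a = 1 := by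
  decide +kernel

theorem perm_four_not_normal : ∀ a : Equiv.Perm (Fin 4), a ^ 3 = 1 → a ≠ 1 →
    ∃ g : Equiv.Perm (Fin 4), ∀ j < 3, g * a * g⁻¹ ≠ a ^ j := by
  decide +kernel

theorem alt_five_not_normal : ∀ a : alternatingGroup (Fin 5), a ^ 5 = 1 → a ≠ 1 →
    ∃ g : alternatingGroup (Fin 5), ∀ j < 5, g * a * g⁻¹ ≠ a ^ j := by
  decide +kernel

theorem not_normal_of_model {X Γ : Type*} [Group X] [Group Γ] [Finite X] (e : X ≃* Γ) {h : ℕ}
    (hΓ : ∀ a : Γ, a ^ h = 1 → a ≠ 1 → ∃ g : Γ, ∀ j < h, g * a * g⁻¹ ≠ a ^ j) {c : X} (hc : orderOf c = h)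
    (h1 : h ≠ 1) : ¬ (zpowers c).Normal := by
  classical
  intro hn
  obtain ⟨g, hg⟩ := hΓ (e c) (by rw [← map_pow, ← hc, pow_orderOf_eq_one, map_one]) (fun e1 => h1 (by
    rw [← hc, ← e.orderOf_eq, e1, orderOf_one]))
  have hm := hn.conj_mem c (mem_zpowers c) (e.symm g)
  obtain ⟨j, hj, hje⟩ := (isOfFinOrder_of_finite c).mem_zpowers_iff_mem_range_orderOf.1 hm |> Finset.mem_image.1
  refine hg j (by rw [← hc]; exact Finset.mem_range.1 hj) ?_
  have := congrArg e hje
  rw [map_pow, map_mul, map_mul, map_inv, e.apply_symm_apply] at this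
  exact this.symm

variable {F : Type*} [Field F] [Fintype F]

/-- An overgroup of the centraliser of an outer diagonal involution, invariant under it and different
from it, is everything. -/
theorem eq_top_of_invariant (hodd : Odd (Fintype.card F)) (h3 : 3 < Fintype.card F) {α : MulAut (PSL 2 F)}
    (hsq : α * α = 1) {h : ℕ} (hh : Odd h) (hh3 : 3 ≤ h)
    (hhq : 2 * h = Fintype.card F + 1 ∨ 2 * h + 1 = Fintype.card F)
    (ψC : fixed α ≃* DihedralGroup h) {H : Subgroup (PSL 2 F)} (hlt : fixed α < H)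
    (hinv : ∀ k ∈ H, α k ∈ H) : H = ⊤ := by
  obtain ⟨p, hp⟩ := CharP.exists F
  obtain ⟨f, hpp, hpf⟩ := FiniteField.card F p
  have : Fact p.Prime := ⟨hpp⟩
  have hp2 : p ≠ 2 := fun h' => (Nat.not_even_iff_odd.2 hodd) (by
    rw [hpf, h']; exact (even_two).pow_of_ne_zero f.ne_zero)
  set q := Fintype.card F with hqdef
  have hodd' := Nat.odd_iff.1 hodd
  have hh' := Nat.odd_iff.1 hh
  have hgcd : Nat.gcd 2 (q - 1) = 2 := Nat.gcd_eq_left (Nat.dvd_of_mod_eq_zero (by omega))
  have hside : h ∣ (q + 1) / Nat.gcd 2 (q - 1) ∨ h ∣ (q - 1) / Nat.gcd 2 (q - 1) := by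
    rw [hgcd]
    rcases hhq with e | e
    · exact Or.inl (by rw [show (q + 1) / 2 = h by omega])
    · exact Or.inr (by rw [show (q - 1) / 2 = h by omega])
  have hph : ¬ p ∣ h := not_dvd_of_dvd_torus p hqdef.symm hside
  obtain ⟨c, w, hc, hw, hco, hwc, hpow, hcom, hcn, -⟩ := dihedral_facts hh hh3 ψC
  have hC : Nat.card (fixed α) = 2 * h := (Nat.card_congr ψC.toEquiv).trans DihedralGroup.nat_card
  have hcc : c * c ≠ 1 := fun e => by
    have := Nat.le_of_dvd two_pos (hco ▸ orderOf_dvd_of_pow_eq_one ((pow_two c).trans e))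
    omega
  let c' : H := ⟨c, hlt.le hc⟩
  let w' : H := ⟨w, hlt.le hw⟩
  have hc' : orderOf c' = h := by rw [Subgroup.orderOf_mk, hco]
  have hwc' : w' * c' * w'⁻¹ = c'⁻¹ := Subtype.ext hwc
  obtain ⟨hcard, hdvd⟩ := card_lt_of_lt hlt
  rw [hC] at hcard hdvd
  have hG := gcd_mul_card_psl (F := F) hqdef.symm
  rw [hgcd] at hG
  replace hG : 2 * Nat.card (PSL 2 F) = q * (q ^ 2 - 1) := hG
  replace hcard : 2 * h < Nat.card H := hcard
  have hrigid : ∀ {Γ : Type} [Group Γ] (e : H ≃* Γ), h.Prime → Nat.card Γ = 2 * h * (h + 1) →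
      (∀ a : Γ, a ^ h = 1 → a ≠ 1 → ∃ g : Γ, ∀ j < h, g * a * g⁻¹ ≠ a ^ j) → False := by
    intro Γ _ e hhp hΓ hnn
    let ψ : MulAut H :=
      { toFun := fun k => ⟨α k, hinv k k.2⟩
        invFun := fun k => ⟨α k, hinv k k.2⟩
        left_inv := fun k => Subtype.ext (by show α (α k) = k; rw [← MulAut.mul_apply, hsq, MulAut.one_apply])
        right_inv := fun k => Subtype.ext (by show α (α k) = k; rw [← MulAut.mul_apply, hsq, MulAut.one_apply])
        map_mul' := fun a b => Subtype.ext (map_mul α _ _) }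
    have hψapply : ∀ k : H, ((ψ k : H) : PSL 2 F) = α k := fun _ => rfl
    have hidx : ((fixed α).subgroupOf H).index = h + 1 := by
      have e1 := ((fixed α).subgroupOf H).card_mul_index
      rw [Nat.card_congr (subgroupOfEquivOfLe hlt.le).toEquiv, hC, Nat.card_congr e.toEquiv, hΓ] at e1
      exact Nat.eq_of_mul_eq_mul_left (by omega) e1
    have hz : ∀ {d : H}, (d : PSL 2 F) ∈ zpowers c → d ∈ zpowers c' := fun {d} hd => by
      obtain ⟨k, hk⟩ := mem_zpowers_iff.1 hd
      exact mem_zpowers_iff.2 ⟨k, Subtype.ext (by rw [← hk]; simp [c'])⟩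
    have h1 := eq_one_of_fix_dihedral ψ (MulEquiv.ext fun k => Subtype.ext (by
        rw [MulAut.mul_apply, hψapply, hψapply, ← MulAut.mul_apply, hsq]; rfl))
      ((fixed α).subgroupOf H) (fun d hd => Subtype.ext hd) hhp (by omega) hidx (c := c') hc hc'
      (fun d hd hd' => hz (hpow d hd (by rw [← coe_pow, hd']; rfl)))
      (fun d hd hd' => hz (hcom d hd (congrArg Subtype.val hd'.eq)))
      (fun d hd => hz (hcn d hd)) (not_normal_of_model e hnn hc' hhp.one_lt.ne')
    exact hlt.not_ge fun k hk => congrArg Subtype.val (MulEquiv.congr_fun h1 ⟨k, hk⟩)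
  rcases subgroup_cases p hqdef.symm H with
    ⟨hcyc, -, -⟩ | ⟨-, z, hz⟩ | ⟨n, hn2, -, hn, ⟨ψ⟩⟩ | ⟨⟨ψ⟩⟩ | ⟨⟨ψ⟩⟩ | ⟨⟨ψ⟩⟩ | ⟨a, m, hk3, hkm, ha, hcase⟩
  · exfalso
    let := IsCyclic.commGroup (α := H)
    have e : w' * c' * w'⁻¹ = c' := by rw [mul_comm w' c', mul_inv_cancel_right]
    rw [hwc'] at e
    refine hcc ?_
    have e' : c⁻¹ = c := congrArg Subtype.val e
    nth_rewrite 2 [← e']
    exact mul_inv_cancel c
  · exfalso
    refine not_fix_of_commutator p (n := h) hph (g := w) (h := c) ?_ ?_ (hz w (hlt.le hw)) (hz c (hlt.le hc))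
    · rw [commutatorElement_def, hwc, ← _root_.mul_inv_rev, Ne, inv_eq_one]
      exact hcc
    · rw [commutatorElement_def, hwc, ← _root_.mul_inv_rev, inv_pow, ← pow_two, ← pow_mul, mul_comm, pow_mul,
        ← hco, pow_orderOf_eq_one, one_pow, inv_one]
  · exfalso
    have : NeZero n := ⟨by omega⟩
    have hn' : Nat.card H = 2 * n := card_of_equiv ψ DihedralGroup.nat_card
    rw [hgcd] at hn
    rcases orderOf_dvd_of_dihedral ψ c' with e | e <;> rw [hc'] at e
    · have hle := Nat.le_of_dvd (by omega) e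
      rcases hn with hn | hn <;> rcases hhq with hq | hq
      · have := Nat.le_of_dvd (by omega) hn; omega
      · rw [show (q + 1) / 2 = h + 1 by omega] at hn
        have := Nat.le_of_dvd one_pos ((Nat.dvd_add_right dvd_rfl).1 (e.trans hn))
        omega
      · rw [show (q - 1) / 2 = h - 1 by omega] at hn
        have := Nat.le_of_dvd (by omega) (e.trans hn)
        omega
      · have := Nat.le_of_dvd (by omega) hn; omega
    · omega
  · exfalso
    have hord : orderOf (ψ c') = h := by rw [ψ.orderOf_eq, hc']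
    rcases (by decide +kernel : ∀ a : alternatingGroup (Fin 4), a ^ 2 = 1 ∨ a ^ 3 = 1) (ψ c') with e | e <;>
      have e' := orderOf_dvd_of_pow_eq_one e <;> rw [hord] at e' <;> have hle := Nat.le_of_dvd (by norm_num) e'
    · omega
    · have e1 := alt_four_no_inverted (ψ c') (ψ w') e
        (by rw [← map_inv, ← map_mul, ← map_mul, hwc', map_inv])
      rw [e1, orderOf_one] at hord
      omega
  · exfalso
    have hord : orderOf (ψ c') = h := by rw [ψ.orderOf_eq, hc']
    have h3' : h = 3 := by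
      rcases (by decide +kernel : ∀ a : Equiv.Perm (Fin 4), a ^ 3 = 1 ∨ a ^ 4 = 1) (ψ c') with e | e <;>
        have e' := orderOf_dvd_of_pow_eq_one e <;> rw [hord] at e' <;>
        have := Nat.le_of_dvd (by norm_num) e' <;> omega
    subst h3'
    exact hrigid ψ Nat.prime_three (by rw [natCard_perm_four]) perm_four_not_normal
  · have hord : orderOf (ψ c') = h := by rw [ψ.orderOf_eq, hc']
    have h35 : h = 3 ∨ h = 5 := by
      rcases (by decide +kernel : ∀ a : alternatingGroup (Fin 5), a ^ 2 = 1 ∨ a ^ 3 = 1 ∨ a ^ 5 = 1)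
        (ψ c') with e | e | e <;>
        have e' := orderOf_dvd_of_pow_eq_one e <;> rw [hord] at e' <;>
        have := Nat.le_of_dvd (by norm_num) e' <;> omega
    have h60 : Nat.card H = 60 := card_of_equiv ψ natCard_alt_five
    rcases h35 with rfl | rfl
    · have hd := H.card_subgroup_dvd_card
      rw [h60] at hd
      rcases hhq with e | e
      · rw [show q = 5 by omega] at hG
        norm_num at hG
        exact Subgroup.eq_top_of_le_card H (by omega)
      · rw [show q = 7 by omega] at hG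
        norm_num at hG
        omega
    · exact (hrigid ψ (by norm_num) (by rw [natCard_alt_five]) alt_five_not_normal).elim
  · obtain ⟨b, hb⟩ := Nat.exists_eq_succ_of_ne_zero ha
    have hpow' : p ^ a ≤ q ∧ (m ≤ 1 → p ^ a = q) ∧ (2 ≤ m → p ^ a * p ^ a ≤ q) := by
      refine ⟨?_, fun hm => ?_, fun hm => ?_⟩
      · rw [← hkm]
        refine Nat.le_self_pow ?_ _
        rintro rfl
        rw [pow_zero] at hkm; omega
      · interval_cases m
        · rw [pow_zero] at hkm; omega
        · rwa [pow_one] at hkm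
      · rw [← hkm, ← pow_two]
        exact Nat.pow_le_pow_right (by omega) hm
    rcases Nat.lt_or_ge m 2 with hm | hm
    · have hk := hpow'.2.1 (by omega)
      rw [hk] at hcase
      have hle : Nat.card H ≤ Nat.card (PSL 2 F) :=
        Nat.card_le_card_of_injective (fun k : H => (k : PSL 2 F)) Subtype.val_injective
      have : 0 < Nat.card (PSL 2 F) := Nat.card_pos
      rcases hcase with ⟨e, -⟩ | ⟨-, e, -⟩
      · replace e : Nat.card H = q * (q ^ 2 - 1) := e
        omega
      · replace e : 2 * Nat.card H = q * (q ^ 2 - 1) := e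
        refine Subgroup.eq_top_of_le_card H ?_
        show Nat.card (PSL 2 F) ≤ Nat.card H
        omega
    · exfalso
      have hkq := hpow'.2.2 hm
      let K := GaloisField p a
      have : Fintype K := Fintype.ofFinite K
      have hK : Fintype.card K = p ^ a := by rw [← Nat.card_eq_fintype_card, GaloisField.card p a ha]
      have hord : h ≤ p ^ a + 1 := by
        rcases hcase with ⟨-, ⟨e⟩⟩ | ⟨-, -, ⟨e⟩⟩
        · rw [← hK, ← hc', ← e.orderOf_eq]
          exact CfsgLib.Geo.PGLTwo.orderOf_le p hp2 _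
        · rw [← hK, ← hc', ← e.orderOf_eq,
            ← orderOf_injective _ Matrix.ProjectiveSpecialLinearGroup.toPGL_injective (e c')]
          exact CfsgLib.Geo.PGLTwo.orderOf_le p hp2 _
      have hk3' : p ^ a ≤ 3 := by
        by_contra hlt'
        have := Nat.mul_le_mul_right (p ^ a) (show 4 ≤ p ^ a by omega)
        omega
      have hk : p ^ a = 3 := by omega
      rw [hk] at hkm hord hkq
      rcases Nat.lt_or_ge m 3 with hm' | hm'
      · have hm2 : m = 2 := by omega
        rw [hm2] at hkm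
        omega
      · have := Nat.pow_le_pow_right (show 0 < 3 by norm_num) hm'
        omega

end CfsgLib.GW.Deps.OuterInvol
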