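import Cfsg.Agent.Lib.GW.KFactsProof.Auto

/-!
# The centraliser of an outer diagonal involution of `PSL(2, q)`: matrix facts
-/

set_option autoImplicit false

namespace CfsgLib.GW.Deps.OuterInvol

open Matrix
open CfsgLib.Known.AutPSL CfsgLib.GW.KFactsProof

variable {F : Type*} [Field F]

local notation "M₂" => Matrix (Fin 2) (Fin 2) F

/-- An involution of `PSL(2, F)` has trace zero; so does a square root of a scalar. -/
theorem trace_zero_of_sq {A : M₂} {c : F} (h : A * A = c • 1) (hns : ∀ d : F, A ≠ d • 1) :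
    A 1 1 = -A 0 0 := by
  have e00 := congrFun₂ h 0 0
  have e01 := congrFun₂ h 0 1
  have e10 := congrFun₂ h 1 0
  have e11 := congrFun₂ h 1 1
  simp [Matrix.mul_apply, Fin.sum_univ_two] at e00 e01 e10 e11
  by_contra ht
  have hne : A 0 0 + A 1 1 ≠ 0 := fun h0 => ht (by linear_combination h0)
  have hb : A 0 1 = 0 :=
    (mul_eq_zero.1 (show (A 0 0 + A 1 1) * A 0 1 = 0 by linear_combination e01)).resolve_left hne
  have hc : A 1 0 = 0 :=
    (mul_eq_zero.1 (show (A 0 0 + A 1 1) * A 1 0 = 0 by linear_combination e10)).resolve_left hne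
  have hd : A 0 0 = A 1 1 := sub_eq_zero.1
    ((mul_eq_zero.1 (show (A 0 0 + A 1 1) * (A 0 0 - A 1 1) = 0 by linear_combination e00 - e11)).resolve_left hne)
  refine hns (A 0 0) ?_
  ext i j
  fin_cases i <;> fin_cases j <;> simp [hb, hc, hd]

/-- Two traceless matrices commuting with a non-scalar matrix are proportional. -/
theorem parallel (h2 : (2 : F) ≠ 0) {A X Y : M₂} (hns : ∀ d : F, A ≠ d • 1) (hX : X 1 1 = -X 0 0)
    (hY : Y 1 1 = -Y 0 0) (hXA : X * A = A * X) (hYA : Y * A = A * Y) (hY0 : Y ≠ 0) :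
    ∃ v : F, X = v • Y := by
  set n := A 0 0 - A 1 1 with hn
  have key : ∀ Z : M₂, Z 1 1 = -Z 0 0 → Z * A = A * Z →
      2 * Z 0 0 * A 0 1 = n * Z 0 1 ∧ 2 * Z 0 0 * A 1 0 = n * Z 1 0 ∧ Z 0 1 * A 1 0 = A 0 1 * Z 1 0 := by
    intro Z hZ hZA
    have e00 := congrFun₂ hZA 0 0
    have e01 := congrFun₂ hZA 0 1
    have e10 := congrFun₂ hZA 1 0
    simp [Matrix.mul_apply, Fin.sum_univ_two, hZ] at e00 e01 e10
    exact ⟨by linear_combination e01, by linear_combination -e10, by linear_combination e00⟩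
  have main : ∀ Z : M₂, Z 1 1 = -Z 0 0 → Z * A = A * Z →
      ∀ l, (n ≠ 0 → l = 2 * Z 0 0 / n) → (n = 0 → A 0 1 ≠ 0 → l = Z 0 1 / A 0 1) →
        (n = 0 → A 0 1 = 0 → l = Z 1 0 / A 1 0) →
      2 * Z 0 0 = l * n ∧ Z 0 1 = l * A 0 1 ∧ Z 1 0 = l * A 1 0 := by
    intro Z hZ hZA l h1 h3 h4
    obtain ⟨k1, k2, k3⟩ := key Z hZ hZA
    by_cases hn0 : n = 0
    · by_cases hb : A 0 1 = 0
      · have hc : A 1 0 ≠ 0 := fun hc => hns (A 0 0) (by
          ext i j
          have : A 0 0 = A 1 1 := sub_eq_zero.1 (hn.symm.trans hn0)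
          fin_cases i <;> fin_cases j <;> simp [hb, hc, this])
        rw [h4 hn0 hb]
        refine ⟨?_, ?_, by field_simp⟩
        · rw [hn0, mul_zero]
          exact (mul_eq_zero.1 (show 2 * Z 0 0 * A 1 0 = 0 by rw [k2, hn0, zero_mul])).resolve_right hc
        · rw [hb, mul_zero]
          exact (mul_eq_zero.1 (show Z 0 1 * A 1 0 = 0 by rw [k3, hb, zero_mul])).resolve_right hc
      · rw [h3 hn0 hb]
        refine ⟨?_, by field_simp, ?_⟩
        · rw [hn0, mul_zero]
          exact (mul_eq_zero.1 (show 2 * Z 0 0 * A 0 1 = 0 by rw [k1, hn0, zero_mul])).resolve_right hb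
        · field_simp
          linear_combination -k3
    · rw [h1 hn0]
      refine ⟨by field_simp, ?_, ?_⟩
      · field_simp
        linear_combination -k1
      · field_simp
        linear_combination -k2
  obtain ⟨lX, a1, a2, a3⟩ : ∃ l, (n ≠ 0 → l = 2 * X 0 0 / n) ∧ (n = 0 → A 0 1 ≠ 0 → l = X 0 1 / A 0 1) ∧
      (n = 0 → A 0 1 = 0 → l = X 1 0 / A 1 0) := by
    by_cases hn0 : n = 0
    · by_cases hb : A 0 1 = 0
      · exact ⟨_, fun h => absurd hn0 h, fun _ h => absurd hb h, fun _ _ => rfl⟩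
      · exact ⟨_, fun h => absurd hn0 h, fun _ _ => rfl, fun _ h => absurd h hb⟩
    · exact ⟨_, fun _ => rfl, fun h => absurd h hn0, fun h => absurd h hn0⟩
  obtain ⟨lY, b1, b2, b3⟩ : ∃ l, (n ≠ 0 → l = 2 * Y 0 0 / n) ∧ (n = 0 → A 0 1 ≠ 0 → l = Y 0 1 / A 0 1) ∧
      (n = 0 → A 0 1 = 0 → l = Y 1 0 / A 1 0) := by
    by_cases hn0 : n = 0
    · by_cases hb : A 0 1 = 0
      · exact ⟨_, fun h => absurd hn0 h, fun _ h => absurd hb h, fun _ _ => rfl⟩
      · exact ⟨_, fun h => absurd hn0 h, fun _ _ => rfl, fun _ h => absurd h hb⟩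
    · exact ⟨_, fun _ => rfl, fun h => absurd h hn0, fun h => absurd h hn0⟩
  obtain ⟨x1, x2, x3⟩ := main X hX hXA lX a1 a2 a3
  obtain ⟨y1, y2, y3⟩ := main Y hY hYA lY b1 b2 b3
  have hlY : lY ≠ 0 := by
    rintro rfl
    simp only [zero_mul] at y1 y2 y3
    refine hY0 ?_
    have h00 := (mul_eq_zero.1 y1).resolve_left h2
    ext i j
    fin_cases i <;> fin_cases j <;> simp [h00, y2, y3, hY]
  refine ⟨lX / lY, ?_⟩
  have h00 : X 0 0 = lX / lY * Y 0 0 := by
    refine mul_left_cancel₀ h2 ?_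
    rw [mul_left_comm, x1, y1]
    field_simp
  ext i j
  fin_cases i <;> fin_cases j
  · simpa using h00
  · simp [x2, y2]; field_simp
  · simp [x3, y3]; field_simp
  · simp [hX, hY, h00]

variable [Fintype F]

/-- An outer inner-diagonal involution has a traceless representative of non-square determinant. -/
theorem exists_traceless {α : MulAut (PSL 2 F)} (hsq : α * α = 1) (hf : fld α = 1)
    (hout : α ∉ Cfsg.Inn (PSL 2 F)) :
    ∃ g : GL (Fin 2) F, α = semilin g (RingEquiv.refl F) ∧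
      (g : M₂) 1 1 = -(g : M₂) 0 0 ∧ ¬ IsSquare (g : M₂).det := by
  obtain ⟨g, σ, rfl⟩ := exists_semilin α
  rw [fld_semilin] at hf
  have hσ : σ = RingEquiv.refl F := hf.trans rfl
  subst hσ
  rw [← innDiag_apply, ← map_mul, innDiag_eq_one_iff le_rfl] at hsq
  obtain ⟨c, hc⟩ := hsq
  rw [Units.val_mul] at hc
  have hne : ∀ d : F, (g : M₂) ≠ d • 1 := fun d hd => hout (by
    rw [show semilin g (RingEquiv.refl F) = 1 from (innDiag_eq_one_iff le_rfl g).2 ⟨d, hd⟩]
    exact one_mem _)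
  refine ⟨g, rfl, trace_zero_of_sq hc hne, fun hs => hout ?_⟩
  obtain ⟨d, hd⟩ := hs
  have hd0 : d ≠ 0 := fun h => GeneralLinearGroup.det_ne_zero g (by rw [hd, h, zero_mul])
  rw [← mkAut_false, mem_inn_iff le_rfl _ _ _ (fun _ => rfl)]
  exact ⟨rfl, rfl, Units.mk0 d hd0, Units.ext (by
    rw [GeneralLinearGroup.val_det_apply, Units.val_pow_eq_pow_val, Units.val_mk0, hd, pow_two])⟩

omit [Fintype F] in
theorem det_one_of_sl (A : SL 2 F) : (A : M₂).det = 1 := A.2

omit [Fintype F] in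
theorem proj_sq_one_of_trace_zero {A : SL 2 F} (h : (A : M₂) 1 1 = -(A : M₂) 0 0) :
    proj 2 F A * proj 2 F A = 1 := by
  have hd := det_one_of_sl A
  rw [Matrix.det_fin_two, h] at hd
  rw [← map_mul, ← map_one (proj 2 F), proj_eq_iff]
  refine ⟨-1, by simp, ?_⟩
  ext i j
  fin_cases i <;> fin_cases j <;>
    simp [Matrix.mul_apply, Fin.sum_univ_two, h] <;>
    first | ring1 | linear_combination -hd

omit [Fintype F] in
theorem exists_scalar_of_proj_eq_one {A : SL 2 F} (h : proj 2 F A = 1) : ∃ d : F, (A : M₂) = d • 1 := by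
  obtain ⟨c, -, hc⟩ := (proj_eq_iff 1 A).1 (by rw [map_one, h])
  exact ⟨c, hc⟩

/-- Nothing fixed of order more than two commutes with an involution. -/
theorem sq_eq_one_of_commute (h2 : (2 : F) ≠ 0) {α : MulAut (PSL 2 F)} (hsq : α * α = 1) (hf : fld α = 1)
    (hout : α ∉ Cfsg.Inn (PSL 2 F)) {c x : PSL 2 F} (hc : α c = c) (hx : x ≠ 1) (hx2 : x * x = 1)
    (hcx : Commute c x) : c * c = 1 := by
  obtain ⟨g, rfl, hg, hD⟩ := exists_traceless hsq hf hout
  obtain ⟨A, rfl⟩ := proj_surjective c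
  obtain ⟨B, rfl⟩ := proj_surjective x
  by_cases ht : (A : M₂) 1 1 = -(A : M₂) 0 0
  · exact proj_sq_one_of_trace_zero ht
  by_cases hA1 : proj 2 F A = 1
  · rw [hA1, mul_one]
  exfalso
  have hscal : ∀ (S : SL 2 F) (d : F), (S : M₂) = d • 1 → proj 2 F S = 1 := by
    intro S d hd
    have hd0 : d ≠ 0 := fun h0 => by
      have := det_one_of_sl S
      rw [hd, h0] at this; simp at this
    rw [← map_one (proj 2 F), proj_eq_iff]
    exact ⟨d⁻¹, inv_ne_zero hd0, by rw [hd, smul_smul, inv_mul_cancel₀ hd0, one_smul]; rfl⟩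
  have hns : ∀ d : F, (B : M₂) ≠ d • 1 := fun d hd => hx (hscal B d hd)
  have hB : (B : M₂) 1 1 = -(B : M₂) 0 0 := by
    rw [← map_mul] at hx2
    obtain ⟨d, hd⟩ := exists_scalar_of_proj_eq_one hx2
    exact trace_zero_of_sq (A := (B : M₂)) hd hns
  have hAns : ∀ d : F, (A : M₂) ≠ d • 1 := fun d hd => hA1 (hscal A d hd)
  -- commuting up to a scalar becomes commuting
  have htr : ∀ {X : M₂} {s : F}, X.det ≠ 0 → X * (A : M₂) = s • ((A : M₂) * X) → s = 1 := by
    intro X s hX h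
    have hu : IsUnit X.det := isUnit_iff_ne_zero.2 hX
    have h' : X * (A : M₂) * X⁻¹ = s • (A : M₂) := by
      rw [h, Matrix.smul_mul, Matrix.mul_assoc, Matrix.mul_nonsing_inv X hu, Matrix.mul_one]
    have h3 := congrArg Matrix.trace h'
    rw [Matrix.trace_mul_cycle, Matrix.nonsing_inv_mul X hu, Matrix.one_mul, Matrix.trace_smul, smul_eq_mul] at h3
    have h0 : (A : M₂).trace ≠ 0 := by
      rw [Matrix.trace_fin_two]
      exact fun h0 => ht (by linear_combination h0)
    exact (mul_eq_right₀ h0).1 h3.symm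
  have hgA : (g : M₂) * (A : M₂) = (A : M₂) * (g : M₂) := by
    rw [semilin_proj, proj_eq_iff] at hc
    obtain ⟨s, hs0, hs⟩ := hc
    rw [coe_slConjHom] at hs
    have hmap : (A : M₂).map (RingEquiv.refl F) = (A : M₂) := by ext i j; rfl
    rw [hmap] at hs
    have e : (g : M₂) * (A : M₂) = s⁻¹ • ((A : M₂) * (g : M₂)) := by
      nth_rewrite 2 [hs]
      rw [Matrix.smul_mul, Units.inv_mul_cancel_right, smul_smul, inv_mul_cancel₀ hs0, one_smul]
    rw [e, htr (GeneralLinearGroup.det_ne_zero g) e, one_smul]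
  have hBA : (B : M₂) * (A : M₂) = (A : M₂) * (B : M₂) := by
    have e' := hcx.eq
    rw [← map_mul, ← map_mul, proj_eq_iff] at e'
    obtain ⟨s, hs0, hs⟩ := e'
    replace hs : (B : M₂) * (A : M₂) = s • ((A : M₂) * (B : M₂)) := hs
    rw [hs, htr (by rw [det_one_of_sl]; exact one_ne_zero) hs, one_smul]
  obtain ⟨v, hv⟩ := parallel h2 hAns hB hg hBA hgA g.ne_zero
  have h1 := det_one_of_sl B
  rw [hv, Matrix.det_smul, Fintype.card_fin] at h1
  have hv0 : v ≠ 0 := fun h0 => by rw [h0] at h1; simp at h1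
  exact hD ⟨v⁻¹, by field_simp at h1 ⊢; linear_combination h1⟩

open scoped _root_.Classical in
/-- The rational parametrisation of the fixed torus. -/
theorem exists_many_fixed (h2 : (2 : F) ≠ 0) {α : MulAut (PSL 2 F)} (hsq : α * α = 1) (hf : fld α = 1)
    (hout : α ∉ Cfsg.Inn (PSL 2 F)) :
    ∃ s : Finset (PSL 2 F), Fintype.card F ≤ 2 * s.card + 2 ∧ ∀ c ∈ s, α c = c ∧ (c = 1 ∨ c * c ≠ 1) := by
  obtain ⟨g, rfl, hg, hD⟩ := exists_traceless hsq hf hout
  set D := (g : M₂).det with hDdef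
  have hD1 : ∀ s : F, D * s ^ 2 - 1 ≠ 0 := by
    intro s h
    have hs : s ≠ 0 := by rintro rfl; simp at h
    exact hD ⟨s⁻¹, by field_simp; linear_combination h⟩
  let u : F → F := fun s => (D * s ^ 2 - 1) / (D * s ^ 2 + 1)
  let v : F → F := fun s => -(2 * s) / (D * s ^ 2 + 1)
  let mat : F → M₂ := fun s => u s • (1 : M₂) + v s • (g : M₂)
  have hDd : D = -((g : M₂) 0 0 * (g : M₂) 0 0) - (g : M₂) 0 1 * (g : M₂) 1 0 := by
    rw [hDdef, Matrix.det_fin_two, hg]; ring
  have hdet : ∀ s : F, D * s ^ 2 + 1 ≠ 0 → (mat s).det = 1 := by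
    intro s hs
    have e : (mat s).det = u s ^ 2 + D * v s ^ 2 := by
      rw [hDd, Matrix.det_fin_two]
      simp [mat, hg]
      ring
    rw [e]
    simp only [u, v]
    field_simp
    ring
  let T := {s : F // D * s ^ 2 + 1 ≠ 0}
  let A : T → SL 2 F := fun s => ⟨mat s.1, hdet s.1 s.2⟩
  let Φ : T → PSL 2 F := fun s => proj 2 F (A s)
  have hg0 : ∀ a b : F, a • (1 : M₂) + b • (g : M₂) = 0 → a = 0 ∧ b = 0 := by
    intro a b h
    have e00 := congrFun₂ h 0 0
    have e01 := congrFun₂ h 0 1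
    have e10 := congrFun₂ h 1 0
    have e11 := congrFun₂ h 1 1
    simp [hg] at e00 e01 e10 e11
    have ha : a = 0 := (mul_eq_zero.1 (show (2 : F) * a = 0 by linear_combination e00 + e11)).resolve_left h2
    refine ⟨ha, ?_⟩
    by_contra hb
    rw [ha, zero_add] at e00
    have hd0 := GeneralLinearGroup.det_ne_zero g
    rw [← hDdef, hDd, (mul_eq_zero.1 e00).resolve_left hb, e01.resolve_left hb, e10.resolve_left hb] at hd0
    simp at hd0
  refine ⟨Finset.univ.image Φ, ?_, ?_⟩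
  · have hTle : Fintype.card F ≤ Fintype.card T + 2 := by
      rw [show Fintype.card T = Fintype.card F - Fintype.card {s : F // D * s ^ 2 + 1 = 0} from
        Fintype.card_subtype_compl _]
      suffices Fintype.card {s : F // D * s ^ 2 + 1 = 0} ≤ 2 by omega
      by_cases hne : ∃ s₀ : F, D * s₀ ^ 2 + 1 = 0
      · obtain ⟨s₀, h₀⟩ := hne
        rw [Fintype.card_subtype]
        refine le_trans (Finset.card_le_card (t := {s₀, -s₀}) fun s hs => ?_) Finset.card_le_two
        simp only [Finset.mem_filter, Finset.mem_univ, true_and] at hs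
        have hD0 : D ≠ 0 := GeneralLinearGroup.det_ne_zero g
        rcases mul_eq_zero.1 (show (s - s₀) * (s + s₀) = 0 from mul_left_cancel₀ hD0 (by
          linear_combination hs - h₀)) with h | h
        · simp [sub_eq_zero.1 h]
        · simp [eq_neg_of_add_eq_zero_left h]
      · have : IsEmpty {s : F // D * s ^ 2 + 1 = 0} := ⟨fun s => hne ⟨s, s.2⟩⟩
        simp
    refine hTle.trans (Nat.add_le_add_right ?_ 2)
    rw [← Finset.card_univ]
    refine Finset.card_le_mul_card_image _ 2 fun c hc => ?_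
    obtain ⟨s₀, -, rfl⟩ := Finset.mem_image.1 hc
    -- the parameter is recovered from the point of the conic
    let ψ : F → F := fun e => -(e * v s₀.1) / (1 - e * u s₀.1)
    refine le_trans (Finset.card_le_card_of_injOn (t := {ψ 1, ψ (-1)}) (fun s => s.1) ?_
      Subtype.val_injective.injOn) Finset.card_le_two
    intro s hs
    simp only [Finset.coe_filter, Finset.mem_univ, true_and, Set.mem_ofPred_eq] at hs
    obtain ⟨e, he0, he⟩ := (proj_eq_iff (A s₀) (A s)).1 hs.symm
    obtain ⟨eu, ev⟩ := hg0 (u s.1 - e * u s₀.1) (v s.1 - e * v s₀.1) (by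
      change mat s.1 = e • mat s₀.1 at he
      simp only [mat] at he
      rw [sub_smul, sub_smul, ← smul_smul, ← smul_smul, ← add_sub_add_comm, ← smul_add, he, sub_self])
    rw [sub_eq_zero] at eu ev
    have he1 : e * e = 1 := by
      have h1 := hdet s.1 s.2
      change mat s.1 = e • mat s₀.1 at he
      rw [he, Matrix.det_smul, Fintype.card_fin, hdet s₀.1 s₀.2, mul_one, pow_two] at h1
      exact h1
    have hval : s.1 = ψ e := by
      simp only [ψ, ← eu, ← ev, u, v]
      have := s.2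
      rw [show (1 : F) - (D * s.1 ^ 2 - 1) / (D * s.1 ^ 2 + 1) = 2 / (D * s.1 ^ 2 + 1) by field_simp; ring]
      field_simp
      rw [eq_div_iff (show s.1 ^ 2 * D + 1 ≠ 0 by rwa [mul_comm])]
    rcases mul_self_eq_one_iff.1 he1 with rfl | rfl <;> simp [hval]
  · intro c hc
    obtain ⟨s, -, rfl⟩ := Finset.mem_image.1 hc
    refine ⟨?_, ?_⟩
    · show semilin g (RingEquiv.refl F) (proj 2 F (A s)) = _
      rw [semilin_proj]
      refine congrArg _ (Subtype.ext ?_)
      rw [coe_slConjHom, show ((A s : SL 2 F) : M₂).map (RingEquiv.refl F) = mat s.1 from by ext i j; rfl]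
      show (g : M₂) * mat s.1 * _ = mat s.1
      simp only [mat, mul_add, add_mul, mul_smul_comm, smul_mul_assoc, mul_one, Units.mul_inv,
        Matrix.mul_assoc]
    · by_cases hs : s.1 = 0
      · left
        rw [← map_one (proj 2 F)]
        refine ((proj_eq_iff (A s) 1).2 ⟨-1, by simp, ?_⟩)
        show (1 : M₂) = (-1 : F) • mat s.1
        simp [mat, u, v, hs]
      · right
        intro hcc
        have hu : u s.1 ≠ 0 := div_ne_zero (hD1 s.1) s.2
        have hv : v s.1 ≠ 0 := div_ne_zero (neg_ne_zero.2 (mul_ne_zero h2 hs)) s.2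
        change proj 2 F (A s) * proj 2 F (A s) = 1 at hcc
        rw [← map_mul] at hcc
        obtain ⟨d, hd⟩ := exists_scalar_of_proj_eq_one hcc
        have hns : ∀ e : F, mat s.1 ≠ e • 1 := fun e he => hv (hg0 (u s.1 - e) (v s.1) (by
          rw [sub_smul, sub_add_eq_add_sub, ← show mat s.1 = u s.1 • 1 + v s.1 • (g : M₂) from rfl, he, sub_self])).2
        have ht := trace_zero_of_sq (A := mat s.1) hd hns
        simp [mat, hg] at ht
        exact hu ((mul_eq_zero.1 (show (2 : F) * u s.1 = 0 by linear_combination ht)).resolve_left h2)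

end CfsgLib.GW.Deps.OuterInvol
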