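import Cfsg.Agent.Lib.GW.Deps.OuterInvol.Matrix
import Cfsg.Agent.Lib.GW.KFactsProof.Linear
import Cfsg.Agent.Lib.Classical.Dickson.MaxExist

/-!
# The centraliser of an outer diagonal involution of `PSL(2, q)` is dihedral
-/

set_option autoImplicit false

namespace CfsgLib.GW.Deps.OuterInvol

open Subgroup
open CfsgLib.Known.AutPSL CfsgLib.GW.KFactsProof CfsgLib.Classical.Dickson

variable {F : Type*} [Field F] [Fintype F]

/-- The subgroup fixed by an automorphism. -/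
def fixed {G : Type*} [Group G] (α : MulAut G) : Subgroup G :=
  α.toMonoidHom.eqLocus (MonoidHom.id G)

theorem mem_fixed {G : Type*} [Group G] {α : MulAut G} {k : G} : k ∈ fixed α ↔ α k = k := Iff.rfl

theorem four_alt_four : ∃ v w : alternatingGroup (Fin 4), v ≠ 1 ∧ w ≠ 1 ∧ v ≠ w ∧ v * v = 1 ∧ w * w = 1 ∧ v * w = w * v := by
  decide +kernel

theorem four_perm_four : ∃ v w : Equiv.Perm (Fin 4), v ≠ 1 ∧ w ≠ 1 ∧ v ≠ w ∧ v * v = 1 ∧ w * w = 1 ∧ v * w = w * v := by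
  decide +kernel

theorem four_alt_five : ∃ v w : alternatingGroup (Fin 5), v ≠ 1 ∧ w ≠ 1 ∧ v ≠ w ∧ v * v = 1 ∧ w * w = 1 ∧ v * w = w * v := by
  decide +kernel

theorem four_of_model {G Γ : Type*} [Group G] [Group Γ] {C : Subgroup G} (ψ : C ≃* Γ)
    (h : ∃ v w : Γ, v ≠ 1 ∧ w ≠ 1 ∧ v ≠ w ∧ v * v = 1 ∧ w * w = 1 ∧ v * w = w * v) :
    ∃ v w : G, Four v w ∧ v ∈ C ∧ w ∈ C := by
  obtain ⟨v, w, hv, hw, hne, hv2, hw2, hc⟩ := h
  have hf : Four v w := ⟨orderOf_eq_prime (by rw [pow_two, hv2]) hv, orderOf_eq_prime (by rw [pow_two, hw2]) hw,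
    hne, hc⟩
  exact ⟨_, _, (hf.map ψ.symm.toMonoidHom ψ.symm.injective).map C.subtype C.subtype_injective,
    (ψ.symm v).2, (ψ.symm w).2⟩

theorem dvd_of_subfieldCase (p : ℕ) [Fact p.Prime] [CharP F p] (hp2 : p ≠ 2) {q : ℕ}
    {H : Subgroup (PSL 2 F)} (h : SubfieldCase p q H) : p ∣ Nat.card H := by
  obtain ⟨a, m, -, -, ha, ⟨e, -⟩ | ⟨-, e, -⟩⟩ := h
  · rw [e]; exact dvd_mul_of_dvd_left (dvd_pow_self p ha) _
  · refine ((Nat.coprime_primes (Fact.out : p.Prime) Nat.prime_two).2 hp2).dvd_of_dvd_mul_left ?_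
    rw [e]; exact dvd_mul_of_dvd_left (dvd_pow_self p ha) _

open scoped _root_.Classical in
/-- The centraliser of an outer diagonal involution is dihedral of order `q ± 1`, twice an odd number. -/
theorem fixed_dihedral (hodd : Odd (Fintype.card F)) (h3 : 3 < Fintype.card F) {α : MulAut (PSL 2 F)}
    (hsq : α * α = 1) (hf : fld α = 1) (hout : α ∉ Cfsg.Inn (PSL 2 F))
    (hno4 : ¬ ∃ v w : PSL 2 F, Four v w ∧ α v = v ∧ α w = w)
    {x : PSL 2 F} (hx : x ≠ 1) (hx2 : x * x = 1) (hαx : α x = x) :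
    ∃ h : ℕ, Odd h ∧ 3 ≤ h ∧ (2 * h = Fintype.card F + 1 ∨ 2 * h + 1 = Fintype.card F) ∧
      Nonempty (fixed α ≃* DihedralGroup h) := by
  obtain ⟨p, hp⟩ := CharP.exists F
  obtain ⟨f, hpp, hpf⟩ := FiniteField.card F p
  have : Fact p.Prime := ⟨hpp⟩
  have hp2 : p ≠ 2 := fun h' => (Nat.not_even_iff_odd.2 hodd) (by
    rw [hpf, h']; exact (even_two).pow_of_ne_zero f.ne_zero)
  have h2 : (2 : F) ≠ 0 := two_ne_zero_of_odd' hodd
  obtain ⟨s, hs, hsc⟩ := exists_many_fixed h2 hsq hf hout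
  have hodd' := Nat.odd_iff.1 hodd
  obtain ⟨c₀, hc₀s, hc₀⟩ : ∃ c₀ ∈ s, c₀ * c₀ ≠ 1 := by
    obtain ⟨c₀, hc₀s, hne⟩ := Finset.exists_mem_ne (s := s) (by omega) (1 : PSL 2 F)
    exact ⟨c₀, hc₀s, (hsc c₀ hc₀s).2.resolve_left hne⟩
  have hc₀f : c₀ ∈ fixed α := (hsc c₀ hc₀s).1
  have hnp : ¬ p ∣ Nat.card (fixed α) := by
    intro hdvd
    obtain ⟨u, hu⟩ := exists_prime_orderOf_dvd_card' p hdvd
    rw [← Subgroup.orderOf_coe] at hu
    refine hout ?_
    rw [eq_one_of_fix p hp2 hsq hf (k := 1) (fun e => by rw [e, orderOf_one] at hu; exact hpp.one_lt.ne hu)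
      (by rw [pow_one, ← hu, pow_orderOf_eq_one]) u.2]
    exact one_mem _
  have hno : ∀ {Γ : Type} [Group Γ], (∃ v w : Γ, v ≠ 1 ∧ w ≠ 1 ∧ v ≠ w ∧ v * v = 1 ∧ w * w = 1 ∧ v * w = w * v) →
      fixed α ≃* Γ → False := fun h ψ => by
    obtain ⟨v, w, hvw, hv, hw⟩ := four_of_model ψ h
    exact hno4 ⟨v, w, hvw, hv, hw⟩
  rcases subgroup_cases p (rfl : Fintype.card F = _) (fixed α) with
    ⟨hC, -, -⟩ | ⟨hp', -⟩ | ⟨n, hn2, -, hn, ⟨ψ⟩⟩ | ⟨⟨ψ⟩⟩ | ⟨⟨ψ⟩⟩ | ⟨⟨ψ⟩⟩ | hsub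
  · exfalso
    let := IsCyclic.commGroup (α := fixed α)
    exact hc₀ (sq_eq_one_of_commute h2 hsq hf hout hc₀f hx hx2
      (congrArg Subtype.val (mul_comm (⟨c₀, hc₀f⟩ : fixed α) ⟨x, hαx⟩)))
  · exact absurd hp' hnp
  · have : NeZero n := ⟨by omega⟩
    have hrot : ∀ {k : PSL 2 F} (hk : k ∈ fixed α), k * k ≠ 1 → ∃ i, ψ ⟨k, hk⟩ = DihedralGroup.r i := by
      intro k hk hkk
      rcases hψ : ψ ⟨k, hk⟩ with i | i
      · exact ⟨i, rfl⟩
      · exfalso
        refine hkk (congrArg Subtype.val (ψ.injective (a₁ := ⟨k, hk⟩ * ⟨k, hk⟩) (a₂ := 1) ?_))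
        rw [map_mul, hψ, map_one, DihedralGroup.sr_mul_sr, sub_self]; rfl
    have hn_odd : Odd n := by
      rw [← Nat.not_even_iff_odd]
      rintro ⟨j, rfl⟩
      obtain ⟨i, hi⟩ := hrot hc₀f hc₀
      let z : DihedralGroup (j + j) := DihedralGroup.r ((j : ℕ) : ZMod (j + j))
      have hz1 : z ≠ 1 := by
        rw [Ne, DihedralGroup.one_def, DihedralGroup.r.injEq, ZMod.natCast_eq_zero_iff]
        intro h
        have := Nat.le_of_dvd (by omega) h
        omega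
      have hz2 : z * z = 1 := by
        rw [DihedralGroup.r_mul_r, ← Nat.cast_add, ZMod.natCast_self]; rfl
      refine hc₀ (sq_eq_one_of_commute h2 hsq hf hout hc₀f (x := (ψ.symm z : fixed α)) ?_ ?_ ?_)
      · exact fun e => hz1 (ψ.symm.injective ((Subtype.ext e).trans (map_one _).symm))
      · exact congrArg Subtype.val (show ψ.symm z * ψ.symm z = 1 by rw [← map_mul, hz2, map_one])
      · refine congrArg Subtype.val (ψ.injective (a₁ := ⟨c₀, hc₀f⟩ * ψ.symm z) (a₂ := ψ.symm z * ⟨c₀, hc₀f⟩) ?_)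
        rw [map_mul, map_mul, hi, MulEquiv.apply_symm_apply, DihedralGroup.r_mul_r, DihedralGroup.r_mul_r]
        exact congrArg DihedralGroup.r (add_comm _ _)
    have hcardle : s.card ≤ n := by
      have hex : ∀ c : s, ∃ i, ψ ⟨c.1, (hsc c.1 c.2).1⟩ = DihedralGroup.r i := fun c => by
        rcases (hsc c.1 c.2).2 with h1 | h1
        · refine ⟨0, ?_⟩
          rw [show (⟨c.1, (hsc c.1 c.2).1⟩ : fixed α) = 1 from Subtype.ext h1, map_one]; rfl
        · exact hrot _ h1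
      choose i hi using hex
      have hinj : Function.Injective i := fun a b hab => by
        have e := ψ.injective (a₁ := ⟨a.1, (hsc a.1 a.2).1⟩) (a₂ := ⟨b.1, (hsc b.1 b.2).1⟩) (by rw [hi, hi, hab])
        exact Subtype.ext (congrArg (fun k : fixed α => (k : PSL 2 F)) e)
      simpa [ZMod.card] using Fintype.card_le_of_injective i hinj
    rw [show Nat.gcd 2 (Fintype.card F - 1) = 2 from
      Nat.gcd_eq_left (Nat.dvd_of_mod_eq_zero (by omega))] at hn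
    obtain ⟨t, ht⟩ : ∃ t, Fintype.card F = 2 * t + 1 := hodd
    rw [ht, show (2 * t + 1 + 1) / 2 = t + 1 by omega, show (2 * t + 1 - 1) / 2 = t by omega] at hn
    have hn' : n = t + 1 ∨ n = t := by
      rcases hn with ⟨k, hk⟩ | ⟨k, hk⟩
      · rcases Nat.lt_or_ge k 2 with hk2 | hk2
        · left; interval_cases k <;> omega
        · have := Nat.mul_le_mul_left n hk2; omega
      · rcases Nat.lt_or_ge k 2 with hk2 | hk2
        · right; interval_cases k <;> omega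
        · have := Nat.mul_le_mul_left n hk2; omega
    exact ⟨n, hn_odd, by obtain ⟨r, hr⟩ := hn_odd; omega, by omega, ⟨ψ⟩⟩
  · exact (hno four_alt_four ψ).elim
  · exact (hno four_perm_four ψ).elim
  · exact (hno four_alt_five ψ).elim
  · exact absurd (dvd_of_subfieldCase p hp2 hsub) hnp

end CfsgLib.GW.Deps.OuterInvol
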